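import Groth.Agent.Lib.EtaleLocal.Ring
import Groth.Agent.Lib.RegLoc.Unramified
import Groth.Agent.Lib.RegLoc.UFD
import Mathlib.RingTheory.RegularLocalRing.Polynomial
import Mathlib.RingTheory.RingHom.LocallyStandardSmooth
import Mathlib.RingTheory.RingHom.StandardSmooth
import Mathlib.RingTheory.Unramified.LocalRing
import Mathlib.AlgebraicGeometry.Morphisms.Smooth
import Mathlib.RingTheory.Localization.AtPrime.Basic
import Mathlib.RingTheory.PolynomialAlgebra

/-!
# Smooth algebras over fields are regular
-/

set_option autoImplicit false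
set_option linter.style.haveILetI false
universe u

namespace Groth.Agent.SmoothReg17

/-- An algebra étale over a regular ring is regular. -/
theorem isRegularLocalRing_of_etale {A B : Type u} [CommRing A] [CommRing B] [Algebra A B] [Algebra.Etale A B]
    [IsRegularRing A] (q : Ideal B) [q.IsPrime] : IsRegularLocalRing (Localization.AtPrime q) := by
  let p : Ideal A := q.comap (algebraMap A B)
  haveI : q.LiesOver p := ⟨rfl⟩
  letI : Algebra (Localization.AtPrime p) (Localization.AtPrime q) :=
    (Localization.localRingHom p q (algebraMap A B) rfl).toAlgebra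
  haveI : IsScalarTower A (Localization.AtPrime p) (Localization.AtPrime q) :=
    IsScalarTower.of_algebraMap_eq fun a => by
      rw [RingHom.algebraMap_toAlgebra, Localization.localRingHom_to_map]
      exact IsScalarTower.algebraMap_apply A B (Localization.AtPrime q) a
  haveI := EtaleLocal.isLocalHom_algebraMap p q
  haveI := EtaleLocal.flat p q
  haveI := EtaleLocal.essFiniteType p q
  haveI := EtaleLocal.formallyUnramified p q
  haveI : IsNoetherianRing (Localization.AtPrime q) :=
    Algebra.EssFiniteType.isNoetherianRing (Localization.AtPrime p) _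
  exact (RegLoc.isRegularLocalRing_iff_of_map_maximalIdeal
    (Algebra.FormallyUnramified.map_maximalIdeal (R := Localization.AtPrime p)
      (S := Localization.AtPrime q))).1 inferInstance

/-- The local rings of a smooth algebra over a field are regular. -/
theorem isRegularLocalRing_of_smooth {k : Type u} [Field k] {B : Type u} [CommRing B] (f : k →+* B)
    (hf : f.Smooth) (q : Ideal B) [q.IsPrime] : IsRegularLocalRing (Localization.AtPrime q) := by
  obtain ⟨s, hs, hloc⟩ := hf.locally_isStandardSmooth
  obtain ⟨g, hg, hgq⟩ : ∃ g ∈ s, g ∉ q := by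
    by_contra h
    push Not at h
    exact (Ideal.IsPrime.ne_top ‹q.IsPrime›) (top_le_iff.1 (hs ▸ Ideal.span_le.2 h))
  obtain ⟨n, e, he, hetale⟩ := (hloc g hg).exists_etale_mvPolynomial
  let Bg := Localization.Away g
  letI := e.toAlgebra
  haveI : Algebra.Etale (MvPolynomial (Fin n) k) Bg := hetale
  have hdisj : Disjoint ((Submonoid.powers g : Submonoid B) : Set B) (q : Set B) := by
    rw [Set.disjoint_left]
    rintro x ⟨i, rfl⟩ hx
    exact hgq (Ideal.IsPrime.mem_of_pow_mem ‹_› i hx)
  let q' : Ideal Bg := q.map (algebraMap B Bg)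
  haveI : q'.IsPrime := IsLocalization.isPrime_of_isPrime_disjoint (Submonoid.powers g) Bg q inferInstance hdisj
  have hcomap : q'.comap (algebraMap B Bg) = q :=
    IsLocalization.comap_map_of_isPrime_disjoint (Submonoid.powers g) Bg inferInstance hdisj
  haveI : IsRegularLocalRing (Localization.AtPrime q') :=
    isRegularLocalRing_of_etale (A := MvPolynomial (Fin n) k) q'
  haveI : IsLocalization.AtPrime (Localization.AtPrime q') q := by
    have := IsLocalization.isLocalization_isLocalization_atPrime_isLocalization (Submonoid.powers g)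
      (Localization.AtPrime q') q'
    simpa only [hcomap] using this
  exact IsRegularLocalRing.of_ringEquiv
    (IsLocalization.algEquiv q.primeCompl (Localization.AtPrime q') (Localization.AtPrime q)).toRingEquiv

open AlgebraicGeometry CategoryTheory

/-- The local rings of a scheme smooth over a field are regular. -/
theorem isRegularLocalRing_stalk {k : Type u} [Field k] {X : Scheme.{u}}
    (p : X ⟶ Spec (CommRingCat.of k)) [Smooth p] (x : X) : IsRegularLocalRing (X.presheaf.stalk x) := by
  obtain ⟨V, hV, hxV, -⟩ := exists_isAffineOpen_mem_and_subset (show x ∈ (⊤ : X.Opens) from trivial)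
  have h1 := p.smooth_appLE (isAffineOpen_top (Spec (CommRingCat.of k))) hV (le_top : V ≤ p ⁻¹ᵁ ⊤)
  let e := (Scheme.ΓSpecIso (CommRingCat.of k)).symm.commRingCatIsoToRingEquiv
  have h2 : ((p.appLE ⊤ V le_top).hom.comp e.toRingHom).Smooth :=
    RingHom.Smooth.comp (RingHom.Smooth.of_bijective e.bijective) h1
  letI := X.presheaf.algebra_section_stalk (⟨x, hxV⟩ : V)
  haveI := hV.isLocalization_stalk ⟨x, hxV⟩
  haveI := isRegularLocalRing_of_smooth _ h2 (hV.primeIdealOf ⟨x, hxV⟩).asIdeal
  exact IsRegularLocalRing.of_ringEquiv
    (IsLocalization.algEquiv (hV.primeIdealOf ⟨x, hxV⟩).asIdeal.primeCompl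
      (Localization.AtPrime (hV.primeIdealOf ⟨x, hxV⟩).asIdeal) (X.presheaf.stalk x)).toRingEquiv

theorem isDomain_stalk {k : Type u} [Field k] {X : Scheme.{u}}
    (p : X ⟶ Spec (CommRingCat.of k)) [Smooth p] (x : X) : IsDomain (X.presheaf.stalk x) :=
  haveI := isRegularLocalRing_stalk p x
  RegLoc.isDomain _

theorem isIntegrallyClosed_stalk {k : Type u} [Field k] {X : Scheme.{u}}
    (p : X ⟶ Spec (CommRingCat.of k)) [Smooth p] (x : X) : IsIntegrallyClosed (X.presheaf.stalk x) := by
  haveI := isRegularLocalRing_stalk p x
  haveI := RegLoc.isDomain (X.presheaf.stalk x)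
  haveI := RegLoc.ufd_of_isRegularLocalRing (X.presheaf.stalk x)
  infer_instance

end Groth.Agent.SmoothReg17
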